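/- Weights of an elementary abelian group in a representation in coprime characteristic.
Main results: `exists_ne_one_addChar`, `proj`, `proj_mul`, `sum_proj`, `proj_conj`,
`card_weights_le`, `exists_weight_ne_zero`. -/
import Cfsg.Agent.EqLemmas

set_option autoImplicit false

namespace Cfsg.Agent.CrossChar

open Matrix

/-- A non-trivial additive character into an algebraically closed field of other characteristic. -/
theorem exists_ne_one_addChar (F : Type*) [Field F] [Finite F] (L : Type*) [Field L] [IsAlgClosed L]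
    (h : ringChar L ≠ ringChar F) : ∃ ψ : AddChar F L, ψ ≠ 1 := by
  let P := AddChar.FiniteField.primitiveChar F L h
  haveI : FiniteDimensional L (CyclotomicField P.n L) :=
    inferInstanceAs (FiniteDimensional L (Polynomial.cyclotomic P.n L).SplittingField)
  let φ : CyclotomicField P.n L →ₐ[L] L := IsAlgClosed.lift
  refine ⟨φ.toRingHom.toMonoidHom.compAddChar P.char, fun h1 => ?_⟩
  refine P.prim (one_ne_zero : (1 : F) ≠ 0) ?_
  rw [AddChar.mulShift_one]
  ext a
  apply φ.injective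
  have := congrArg (fun χ : AddChar F L => χ a) h1
  simpa using this

variable {F : Type*} [Field F] [Fintype F] {L : Type*} [Field L] {m d : ℕ}

/-- The character `v ↦ ψ (w ⬝ v)`. -/
def chi (ψ : AddChar F L) (w : Fin m → F) : AddChar (Fin m → F) L where
  toFun v := ψ (w ⬝ᵥ v)
  map_zero_eq_one' := by simp
  map_add_eq_mul' u v := by rw [dotProduct_add, AddChar.map_add_eq_mul]

@[simp] theorem chi_apply (ψ : AddChar F L) (w v : Fin m → F) : chi ψ w v = ψ (w ⬝ᵥ v) := rfl

theorem sum_chi (ψ : AddChar F L) (hψ : ψ ≠ 1) (w : Fin m → F) [DecidableEq F] :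
    ∑ v, ψ (w ⬝ᵥ v) = if w = 0 then (Fintype.card (Fin m → F) : L) else 0 := by
  split_ifs with h
  · simp [h]
  · have hne : chi ψ w ≠ 1 := by
      obtain ⟨a, ha⟩ := AddChar.ne_one_iff.1 hψ
      obtain ⟨i, hi⟩ : ∃ i, w i ≠ 0 := by
        by_contra hc; push Not at hc; exact h (funext hc)
      rw [AddChar.ne_one_iff]
      exact ⟨Pi.single i (a / w i), by rwa [chi_apply, dotProduct_single, mul_div_cancel₀ _ hi]⟩
    simpa using AddChar.sum_eq_zero_of_ne_one hne

/-- The projection on the weight `w`. -/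
noncomputable def proj (ψ : AddChar F L) (σ : (Fin m → F) → Matrix (Fin d) (Fin d) L)
    (w : Fin m → F) : Matrix (Fin d) (Fin d) L :=
  (Fintype.card (Fin m → F) : L)⁻¹ • ∑ v, ψ (-(w ⬝ᵥ v)) • σ v

variable {ψ : AddChar F L} {σ : (Fin m → F) → Matrix (Fin d) (Fin d) L}

theorem apply_mul_proj (hadd : ∀ u v, σ (u + v) = σ u * σ v) (u w : Fin m → F) :
    σ u * proj ψ σ w = ψ (w ⬝ᵥ u) • proj ψ σ w := by
  rw [proj, Matrix.mul_smul, smul_comm (ψ (w ⬝ᵥ u)), Matrix.mul_sum, Finset.smul_sum (r := ψ (w ⬝ᵥ u))]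
  congr 1
  refine Fintype.sum_equiv (Equiv.addLeft u : (Fin m → F) ≃ (Fin m → F)) _ _ fun v => ?_
  simp only [Equiv.coe_addLeft, Matrix.mul_smul, hadd, smul_smul, ← AddChar.map_add_eq_mul]
  congr 2
  rw [dotProduct_add]
  ring

theorem card_ne_zero (hL : ringChar L ≠ ringChar F) : (Fintype.card (Fin m → F) : L) ≠ 0 := by
  rw [Fintype.card_fun, Fintype.card_fin, Nat.cast_pow]
  refine pow_ne_zero _ ?_
  obtain ⟨k, hp, hk⟩ := FiniteField.card F (ringChar F)
  rw [hk, Nat.cast_pow]
  refine pow_ne_zero _ fun h => hL ?_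
  exact CharP.ringChar_of_prime_eq_zero hp h

theorem proj_mul (hψ : ψ ≠ 1) (hL : ringChar L ≠ ringChar F) (hadd : ∀ u v, σ (u + v) = σ u * σ v)
    [DecidableEq F] (w w' : Fin m → F) :
    proj ψ σ w' * proj ψ σ w = if w = w' then proj ψ σ w else 0 := by
  have : proj ψ σ w' * proj ψ σ w =
      ((Fintype.card (Fin m → F) : L)⁻¹ * ∑ v, ψ ((w - w') ⬝ᵥ v)) • proj ψ σ w := by
    conv_lhs => rw [proj]
    rw [Matrix.smul_mul, Matrix.sum_mul, mul_smul, Finset.sum_smul]
    congr 1
    refine Finset.sum_congr rfl fun v _ => ?_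
    rw [Matrix.smul_mul, apply_mul_proj hadd, smul_smul, ← AddChar.map_add_eq_mul, sub_dotProduct]
    congr 2
    ring
  rw [this, sum_chi ψ hψ]
  by_cases h : w = w'
  · rw [if_pos (sub_eq_zero.2 h), if_pos h, inv_mul_cancel₀ (card_ne_zero hL), one_smul]
  · simp [h, sub_ne_zero.2 h]

theorem sum_proj (hψ : ψ ≠ 1) (hL : ringChar L ≠ ringChar F) (h0 : σ 0 = 1) [DecidableEq F] :
    ∑ w, proj ψ σ w = 1 := by
  simp only [proj, ← Finset.smul_sum]
  rw [Finset.sum_comm, Finset.sum_eq_single 0]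
  · simp only [dotProduct_zero, neg_zero, AddChar.map_zero_eq_one, one_smul, h0,
      Finset.sum_const, Finset.card_univ]
    rw [← Nat.cast_smul_eq_nsmul L, smul_smul, inv_mul_cancel₀ (card_ne_zero hL), one_smul]
  · intro v _ hv
    rw [← Finset.sum_smul]
    have : ∑ w, ψ (-(w ⬝ᵥ v)) = 0 := by
      have h := sum_chi ψ hψ (-v)
      rw [if_neg (neg_ne_zero.2 hv)] at h
      rw [← h]
      refine Finset.sum_congr rfl fun w _ => ?_
      rw [neg_dotProduct, dotProduct_comm]
    rw [this, zero_smul]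
  · simp

/-- If `σ` is not trivial, some non-zero weight occurs. -/
theorem exists_weight_ne_zero (hψ : ψ ≠ 1) (hL : ringChar L ≠ ringChar F) (h0 : σ 0 = 1)
    (hadd : ∀ u v, σ (u + v) = σ u * σ v) {u : Fin m → F} (hu : σ u ≠ 1) :
    ∃ w, w ≠ 0 ∧ proj ψ σ w ≠ 0 := by
  classical
  by_contra hc
  push Not at hc
  apply hu
  have h1 : proj ψ σ 0 = 1 := by
    rw [← sum_proj hψ hL h0, Finset.sum_eq_single (0 : Fin m → F)]
    · intro w _ hw; exact hc w hw
    · simp
  have := apply_mul_proj (ψ := ψ) hadd u 0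
  rw [h1] at this
  simpa using this

/-- Intertwiners permute the weights. -/
theorem proj_conj {P : Matrix (Fin d) (Fin d) L} (f : (Fin m → F) ≃ (Fin m → F))
    (hP : ∀ v, σ v * P = P * σ (f v)) (w w' : Fin m → F) (hw : ∀ v, w' ⬝ᵥ f v = w ⬝ᵥ v) :
    proj ψ σ w * P = P * proj ψ σ w' := by
  rw [proj, proj, Matrix.smul_mul, Matrix.mul_smul, Matrix.sum_mul, Matrix.mul_sum]
  congr 1
  refine Fintype.sum_equiv f _ _ fun v => ?_
  rw [Matrix.smul_mul, Matrix.mul_smul, hP, hw]

/-- Distinct weights that occur are at most `d` in number. -/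
theorem card_weights_le (hψ : ψ ≠ 1) (hL : ringChar L ≠ ringChar F)
    (hadd : ∀ u v, σ (u + v) = σ u * σ v) (S : Finset (Fin m → F))
    (hS : ∀ w ∈ S, proj ψ σ w ≠ 0) : S.card ≤ d := by
  classical
  have hex : ∀ w : S, ∃ x, proj ψ σ w.1 *ᵥ x ≠ 0 := fun w => by
    by_contra hc
    push Not at hc
    exact hS w.1 w.2 (Matrix.toLin'.injective (LinearMap.ext fun x => by simp [hc x]))
  choose x hx using hex
  have hli : LinearIndependent L fun w : S => proj ψ σ w.1 *ᵥ x w := by
    rw [Fintype.linearIndependent_iff]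
    intro g hg i
    have h := congrArg (fun y => proj ψ σ i.1 *ᵥ y) hg
    simp only [Matrix.mulVec_sum, Matrix.mulVec_smul, Matrix.mulVec_mulVec, proj_mul hψ hL hadd,
      Matrix.mulVec_zero] at h
    rw [Finset.sum_eq_single i] at h
    · simp only [if_true] at h
      exact (smul_eq_zero.1 h).resolve_right (hx i)
    · intro j _ hj
      rw [if_neg fun he => hj (Subtype.ext he)]
      simp
    · simp
  simpa using hli.fintype_card_le_finrank

end Cfsg.Agent.CrossChar
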